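import Cfsg.Agent.Lib.Mult.Glue
import Cfsg.Agent.Lib.Grp.M11.Main

set_option autoImplicit false
set_option maxRecDepth 100000

namespace Cfsg.Agent.Mult.M11

open Cfsg.Agent.CG Cfsg.Agent.CG.M11

noncomputable def p2T : ℕ := 0x1003100310031003000010038c060c030c03000000000000680608030000000000008c06040300000000000000000000
noncomputable def p2q1 : ℕ := 0x4002004003011
noncomputable def p2q2 : ℕ := 0x1a0040048d1023
noncomputable def p2NF : ℕ := 0x101010100000000000000000000000000000001000000000000000000010000000000000000000000000000000000000101000000010000000000000000000000000000000000000000000100000000000100000000000000000000000000000000000000000000000000010000000000000000000000000000000000000000000000000000000000000000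
noncomputable def p2gv : ℕ := 0x10101010000000000010100000001
noncomputable def p2av : ℕ := 0x10100000001000000000000000000000000000000000000
noncomputable def p2mu : ℕ := 0x4004000011540000005000000000000000000
noncomputable def p2om : ℕ := 0x0
noncomputable def p2tm : ℕ := 0xfffaff3041ff652fff98ffff7ffffff
noncomputable def p2par : ℕ := 0xc59a38
noncomputable def p2z : Desc := ⟨0,0,0,0,[],[]⟩
noncomputable def p2ds : Tr Desc := (.node (.node (.node (.node (.node (.leaf p2z) (.leaf ⟨1,0x1,1,1,[],[]⟩)) (.node (.leaf p2z) (.leaf ⟨0,0,0,0,[],[]⟩))) (.node (.node (.leaf p2z) (.leaf p2z)) (.node (.leaf ⟨0,4,0,0,[],[]⟩) (.leaf p2z)))) (.node (.node (.node (.leaf p2z) (.leaf ⟨1,0x2,2,1,[],[]⟩)) (.node (.leaf p2z) (.leaf p2z))) (.node (.node (.leaf ⟨0,2,0,0,[],[]⟩) (.leaf ⟨1,0x3,2,2,[],[]⟩)) (.node (.leaf p2z) (.leaf p2z))))) (.node (.node (.node (.node (.leaf p2z) (.leaf ⟨0,1,0,0,[],[]⟩)) (.node (.leaf p2z) (.leaf p2z))) (.node (.node (.leaf p2z) (.leaf ⟨1,0x3,3,1,[],[]⟩))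 (.node (.leaf p2z) (.leaf p2z)))) (.node (.node (.node (.leaf p2z) (.leaf p2z)) (.node (.leaf ⟨0,3,0,0,[],[]⟩) (.leaf ⟨2,0,0,0,[0,0],[2]⟩))) (.node (.node (.leaf p2z) (.leaf ⟨1,0x3,3,3,[],[]⟩)) (.leaf p2z)))))
noncomputable def p2rd : Tr Desc := (.node (.node (.leaf ⟨2,1,0,0,[0,0],[]⟩) (.leaf ⟨2,0,0,0,[1,0],[0,1,2]⟩)) (.leaf ⟨1,0x2,1,1,[],[]⟩))
noncomputable def D2 : Dat where
  p := 2
  q := 2
  n1 := 5
  b := 3
  fl := 4
  ew := 16
  T := p2T
  w := 9
  fuel := 17
  nf := 2
  cm := 3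
  q1 := fun x => look 0xfff p2q1 (Nat.mul 12 x)
  q2 := fun x => look 0xfff p2q2 (Nat.mul 12 x)
  NV := 31
  d := 5
  w2 := 8
  NF := fun x => look 0xffffffffff p2NF (Nat.mul 40 x)
  tm := fun x => look 0xf p2tm (Nat.mul 4 x)
  TM := 15
  par := fun x => look 0x1f p2par (Nat.mul 5 x)
  ds := fun x => p2ds.get x
  r := 3
  s0 := 0
  gv := fun x => look 0xffffffffff p2gv (Nat.mul 40 x)
  rd := fun x => p2rd.get x
  av := fun x => look 0xffffffffff p2av (Nat.mul 40 x)
  mw := 2
  mu := fun x => look 0x3f p2mu (Nat.mul 6 x)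
  ms := []
  om := fun x => look 0x3f p2om (Nat.mul 6 x)
noncomputable def p2w1 : List (List ℕ) := [[3,17,17,24,21,25,25],
  [19,21,21,28,25],
  [2,17,17,28,21,26],
  [12,28,21,25],
  [14,0,43,24,21,28,25],
  [1,18,18,22]]
noncomputable def p2w2 : List (List ℕ) := [[1],
  [2],
  [3],
  [4]]
noncomputable def p2L0c : ℕ := 0x60628407080410
noncomputable def p2L0p : ℕ := 0x6080800200000
noncomputable def p2L0l : ℕ := 0x204081060c200
noncomputable def p2L0q : ℕ := 0x820100000070a18180
noncomputable def p2L1c : ℕ := 0x1840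
noncomputable def p2L1p : ℕ := 0x0
noncomputable def p2L1l : ℕ := 0x100
noncomputable def p2L1q : ℕ := 0x1
noncomputable def p2L : List Lvl := [mkLvl 16 [4,3,1] 8 7 p2L0c p2L0p p2L0l 11 p2L0q,
  mkLvl 64 [2] 2 7 p2L1c p2L1p p2L1l 3 p2L1q]

theorem p2c0 : okcb 11 8 (bases p2L) = true := by decide +kernel
theorem p2c1 : D2.chkNum 0 4 7920 p2w2 p2L = true := by decide +kernel
theorem p2c2 : headAll (appW (appW app p2w1) p2w2) p2L [] = true := by decide +kernel
theorem p2c3 : allL (fun l => l.chk (appW (appW app p2w1) p2w2) 1 (l.N - 1)) p2L = true := by decide +kernel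
theorem p2c4 : D2.chkPc (appW app p2w1) bs 0 25 = true := by decide +kernel
theorem p2c5 : D2.chkFus (appW app p2w1) bs 0 6 = true := by decide +kernel
theorem p2c6 : D2.chkHead = true := by decide +kernel
theorem p2c7 : D2.chkVars 0 31 = true := by decide +kernel
theorem p2c8 : D2.chkRhos 0 3 = true := by decide +kernel
theorem p2c9 : D2.chkEnts 0 25 = true := by decide +kernel

theorem pb2 : PB PG 2 [] :=
  Dat.pbA (D := D2) base card (by norm_num : Nat.Prime 2) (okc_of_okcb p2c0) p2c1 p2c2 p2c3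
    p2c4
    p2c5
    p2c6 p2c7
    p2c8
    p2c9

end Cfsg.Agent.Mult.M11
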